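import Mathlib

/-!
# A surjective morphism of schemes which is injective on sections is an epimorphism
-/

set_option autoImplicit false
universe u

open AlgebraicGeometry CategoryTheory Limits TopologicalSpace Opposite

namespace Groth.Agent.Lib.Helper24.Blanchard

set_option backward.isDefEq.respectTransparency.types false in
/-- A morphism of sheafed spaces which is surjective on points and whose comorphism is a
monomorphism on every open is an epimorphism. -/
lemma SheafedSpace.epi_of_base_surjective_of_c_mono {X Y : SheafedSpace CommRingCat.{u}} (f : X ⟶ Y)
    (h₁ : Function.Surjective f.hom.base)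
    (h₂ : ∀ U, Mono (f.hom.c.app U)) : Epi f := by
  constructor
  intro Z ⟨g, gc⟩ ⟨h, hc⟩ e
  apply_fun InducedCategory.Hom.hom at e
  obtain rfl : g = h := ConcreteCategory.hom_ext _ _ fun y ↦ by
    rw [← (h₁ y).choose_spec]
    simpa using congr(($e).base.hom (h₁ y).choose)
  have : gc = hc := by
    ext U : 2
    apply congrArg CommRingCat.Hom.hom
    rw [← cancel_mono (f.hom.c.app (op ((Opens.map g).obj U)))]
    exact congr(($e).c.app (op U))
  subst this
  rfl

/-- A surjective morphism of schemes which is injective on sections over every open is an
epimorphism of schemes. -/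
theorem epi_of_surjective_of_app_injective {X Y : Scheme.{u}} (f : X ⟶ Y)
    (h₁ : Function.Surjective f.base)
    (h₂ : ∀ U : Y.Opens, Function.Injective (f.app U)) : Epi f := by
  apply CategoryTheory.Functor.epi_of_epi_map (Scheme.forgetToLocallyRingedSpace)
  apply CategoryTheory.Functor.epi_of_epi_map (LocallyRingedSpace.forgetToSheafedSpace)
  apply SheafedSpace.epi_of_base_surjective_of_c_mono _ h₁
  intro U
  apply ConcreteCategory.mono_of_injective
  exact h₂ U.unop

end Groth.Agent.Lib.Helper24.Blanchard
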