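import Mathlib
import Groth.Agent.Lib.Helper24.Blanchard.Epi

/-!
# Factoring a morphism through a contraction `π` with `O_P = π_* O_Q`
-/

set_option autoImplicit false
universe u

open AlgebraicGeometry CategoryTheory Limits TopologicalSpace Opposite

namespace Groth.Agent.Lib.Helper24.Blanchard

variable {Q P Y : Scheme.{u}} (π : Q ⟶ P)

/-- A closed map which is injective on sections is surjective. -/
theorem surjective_of_app_injective (hcl : IsClosedMap π.base)
    (hinj : ∀ W : P.Opens, Function.Injective (π.app W)) : Function.Surjective π.base := by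
  intro p
  by_contra hp
  have hp' : p ∉ Set.range π.base := fun ⟨q, hq⟩ => hp ⟨q, hq⟩
  let N : P.Opens := ⟨(Set.range π.base)ᶜ, hcl.isClosed_range.isOpen_compl⟩
  have hpN : p ∈ N := hp'
  have hbot : π ⁻¹ᵁ N = ⊥ := by
    ext q
    simp only [Opens.coe_bot, Set.mem_empty_iff_false, iff_false]
    intro hq
    exact hq ⟨q, rfl⟩
  have hsub : Subsingleton Γ(Q, π ⁻¹ᵁ N) := by
    rw [hbot]; infer_instance
  have h01 : (0 : Γ(P, N)) = 1 := hinj N (Subsingleton.elim _ _)
  have h2 : (P.presheaf.germ N p hpN) (0 : Γ(P, N)) = (P.presheaf.germ N p hpN) 1 := by rw [h01]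
  rw [map_zero, map_one] at h2
  exact zero_ne_one h2

variable (hcl : IsClosedMap π.base) (hiso : ∀ W : P.Opens, IsIso (π.app W))

include hiso in
lemma app_injective (W : P.Opens) : Function.Injective (π.app W) :=
  (ConcreteCategory.bijective_of_isIso (π.app W)).1

include hcl hiso in
theorem surjective : Function.Surjective π.base :=
  surjective_of_app_injective π hcl (app_injective π hiso)

include hcl hiso in
/-- `π` is an epimorphism of schemes. -/
theorem epi : Epi π :=
  epi_of_surjective_of_app_injective π (surjective π hcl hiso) (app_injective π hiso)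

include hcl hiso in
/-- The restriction of `π` over an open of `P` is an epimorphism of schemes. -/
theorem epi_restrict (N : P.Opens) : Epi (π ∣_ N) := by
  apply epi_of_surjective_of_app_injective
  · intro n
    obtain ⟨q, hq⟩ := surjective π hcl hiso n.1
    refine ⟨⟨q, ?_⟩, ?_⟩
    · change π q ∈ N
      rw [hq]; exact n.2
    · apply Subtype.ext
      exact (morphismRestrict_base_coe π N _).trans hq
  · intro V
    rw [morphismRestrict_app]
    intro a b hab
    apply app_injective π hiso (N.ι ''ᵁ V)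
    have hmono : Function.Injective
        (Q.presheaf.map (eqToHom (image_morphismRestrict_preimage π N V)).op) :=
      (ConcreteCategory.bijective_of_isIso _).1
    exact hmono hab

include hcl hiso in
/-- The base change of `π` along an open immersion is an epimorphism of schemes. -/
theorem epi_pullback_snd {Z : Scheme.{u}} (j : Z ⟶ P) [IsOpenImmersion j] :
    Epi (pullback.snd π j) := by
  let U : P.Opens := j.opensRange
  let e : Z ≅ U.toScheme := j.isoOpensRange
  have he : e.hom ≫ U.ι = j := j.isoOpensRange_hom_ι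
  have H := (isPullback_morphismRestrict π U).flip
  -- `H : IsPullback (π ⁻¹ᵁ U).ι (π ∣_ U) π U.ι`
  let t : pullback π j ⟶ (π ⁻¹ᵁ U).toScheme :=
    H.lift (pullback.fst π j) (pullback.snd π j ≫ e.hom) (by
      rw [Category.assoc, he]; exact pullback.condition)
  have ht₁ : t ≫ (π ⁻¹ᵁ U).ι = pullback.fst π j := H.lift_fst _ _ _
  have ht₂ : t ≫ (π ∣_ U) = pullback.snd π j ≫ e.hom := H.lift_snd _ _ _
  have Hbig : IsPullback (pullback.fst π j) (pullback.snd π j) π (e.hom ≫ U.ι) := by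
    rw [he]; exact IsPullback.of_hasPullback π j
  have Hleft : IsPullback t (pullback.snd π j) (π ∣_ U) e.hom := by
    refine IsPullback.of_right ?_ ht₂ H
    rw [ht₁]; exact Hbig
  haveI : IsIso t := Hleft.isIso_fst_of_isIso
  haveI := epi_restrict π hcl hiso U
  have : pullback.snd π j = t ≫ (π ∣_ U) ≫ e.inv := by
    rw [← Category.assoc, ht₂, Category.assoc, Iso.hom_inv_id, Category.comp_id]
  rw [this]
  infer_instance

/-- The affine case: every morphism from `Q` to an affine scheme factors through `π`, as soon as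
`π` induces an isomorphism on global functions. -/
theorem exists_factor_of_isAffine [IsAffine Y] (hπ : IsIso π.appTop) (F : Q ⟶ Y) :
    ∃ ψ : P ⟶ Y, π ≫ ψ = F := by
  refine ⟨P.toSpecΓ ≫ Spec.map (F.appTop ≫ inv π.appTop) ≫ Y.isoSpec.inv, ?_⟩
  have h1 : π ≫ P.toSpecΓ = Q.toSpecΓ ≫ Spec.map π.appTop := Scheme.toSpecΓ_naturality π
  have h2 : F ≫ Y.toSpecΓ = Q.toSpecΓ ≫ Spec.map F.appTop := Scheme.toSpecΓ_naturality F
  have h3 : Spec.map π.appTop ≫ Spec.map (F.appTop ≫ inv π.appTop) = Spec.map F.appTop := by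
    rw [← Spec.map_comp, Category.assoc, IsIso.inv_hom_id, Category.comp_id]
  have h4 : Y.toSpecΓ = Y.isoSpec.hom := rfl
  calc π ≫ P.toSpecΓ ≫ Spec.map (F.appTop ≫ inv π.appTop) ≫ Y.isoSpec.inv
      = (π ≫ P.toSpecΓ) ≫ Spec.map (F.appTop ≫ inv π.appTop) ≫ Y.isoSpec.inv := by
        simp only [Category.assoc]
    _ = Q.toSpecΓ ≫ (Spec.map π.appTop ≫ Spec.map (F.appTop ≫ inv π.appTop)) ≫
          Y.isoSpec.inv := by rw [h1]; simp only [Category.assoc]
    _ = (F ≫ Y.toSpecΓ) ≫ Y.isoSpec.inv := by rw [h3, h2, Category.assoc]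
    _ = F := by rw [h4, Category.assoc, Iso.hom_inv_id, Category.comp_id]

include hcl hiso in
/-- **Local factorization.** If `F` maps the fibre of `π` over `p` to one point, then `F` factors
through `π` over a neighbourhood of `p`. -/
theorem exists_local_factor (F : Q ⟶ Y) (p : P) (y₀ : Y)
    (hp : ∀ q : Q, π q = p → F q = y₀) :
    ∃ (N : P.Opens) (_ : p ∈ N) (ψ : N.toScheme ⟶ Y), (π ∣_ N) ≫ ψ = (π ⁻¹ᵁ N).ι ≫ F := by
  let W : Y.Opens := (Y.affineCover.f (Y.affineCover.idx y₀)).opensRange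
  have hW : IsAffineOpen W := isAffineOpen_opensRange _
  have hyW : y₀ ∈ W := Y.affineCover.covers y₀
  let T : Set Q := ((F ⁻¹ᵁ W : Q.Opens) : Set Q)ᶜ
  have hT : IsClosed T := (F ⁻¹ᵁ W).2.isClosed_compl
  let N : P.Opens := ⟨(π.base '' T)ᶜ, (hcl T hT).isOpen_compl⟩
  have hpN : p ∈ N := by
    rintro ⟨q, hqT, hq⟩
    apply hqT
    change F q ∈ W
    rw [hp q hq]; exact hyW
  have hle : π ⁻¹ᵁ N ≤ F ⁻¹ᵁ W := by
    intro q hq
    by_contra hqW
    exact hq ⟨q, hqW, rfl⟩
  refine ⟨N, hpN, ?_⟩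
  haveI : IsAffine W.toScheme := hW
  -- the restriction of `F`, as a morphism to `W`
  let F' : (π ⁻¹ᵁ N).toScheme ⟶ W.toScheme :=
    IsOpenImmersion.lift W.ι ((π ⁻¹ᵁ N).ι ≫ F) (by
      rintro _ ⟨q, rfl⟩
      rw [Scheme.Opens.range_ι]
      exact hle q.2)
  have hF' : F' ≫ W.ι = (π ⁻¹ᵁ N).ι ≫ F := IsOpenImmersion.lift_fac _ _ _
  have hπN : IsIso (π ∣_ N).appTop := by
    rw [morphismRestrict_appTop]
    exact @IsIso.comp_isIso _ _ _ _ _ _ _ (hiso _) (Functor.map_isIso _ _)
  obtain ⟨ψ', hψ'⟩ := exists_factor_of_isAffine (π ∣_ N) hπN F'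
  exact ⟨ψ' ≫ W.ι, by rw [← Category.assoc, hψ', hF']⟩

include hcl hiso in
/-- **Global factorization.** If `F` is constant on the fibres of `π`, then `F` factors through
`π`. -/
theorem exists_factor (F : Q ⟶ Y) (hF : ∀ q q' : Q, π q = π q' → F q = F q') :
    ∃ ψ : P ⟶ Y, π ≫ ψ = F := by
  have hsurj := surjective π hcl hiso
  have hloc : ∀ p : P, ∃ (N : P.Opens) (_ : p ∈ N) (ψ : N.toScheme ⟶ Y),
      (π ∣_ N) ≫ ψ = (π ⁻¹ᵁ N).ι ≫ F := by
    intro p
    obtain ⟨q₀, hq₀⟩ := hsurj p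
    exact exists_local_factor π hcl hiso F p (F q₀) fun q hq => hF q q₀ (hq.trans hq₀.symm)
  choose N hN ψ hψ using hloc
  have hcov : TopologicalSpace.IsOpenCover N := by
    rw [TopologicalSpace.IsOpenCover, eq_top_iff]
    intro p _
    exact Opens.mem_iSup.mpr ⟨p, hN p⟩
  let 𝒰 : P.OpenCover := P.openCoverOfIsOpenCover N hcov
  -- the lifts into the preimages
  have key : ∀ (p : P) {Z : Scheme.{u}} (j : Z ⟶ (N p).toScheme) (j' : Z ⟶ P)
      (_ : j' = j ≫ (N p).ι), pullback.snd π j' ≫ j ≫ ψ p = pullback.fst π j' ≫ F := by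
    intro p Z j j' hj
    subst hj
    have H := (isPullback_morphismRestrict π (N p)).flip
    let t : pullback π (j ≫ (N p).ι) ⟶ (π ⁻¹ᵁ (N p)).toScheme :=
      H.lift (pullback.fst _ _) (pullback.snd _ _ ≫ j) (by
        rw [Category.assoc]; exact pullback.condition)
    have ht₁ : t ≫ (π ⁻¹ᵁ (N p)).ι = pullback.fst _ _ := H.lift_fst _ _ _
    have ht₂ : t ≫ (π ∣_ (N p)) = pullback.snd _ _ ≫ j := H.lift_snd _ _ _
    rw [← Category.assoc, ← ht₂, Category.assoc, hψ p, ← Category.assoc, ht₁]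
  have hcompat : ∀ p p' : P, pullback.fst (N p).ι (N p').ι ≫ ψ p =
      pullback.snd (N p).ι (N p').ι ≫ ψ p' := by
    intro p p'
    haveI := epi_pullback_snd π hcl hiso (pullback.fst (N p).ι (N p').ι ≫ (N p).ι)
    rw [← cancel_epi (pullback.snd π (pullback.fst (N p).ι (N p').ι ≫ (N p).ι))]
    rw [key p (pullback.fst (N p).ι (N p').ι) _ rfl]
    exact (key p' (pullback.snd (N p).ι (N p').ι) _ pullback.condition).symm
  refine ⟨𝒰.glueMorphisms ψ hcompat, ?_⟩
  apply Scheme.Cover.hom_ext (𝒰.pullback₁ π)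
  intro p
  have hg : (N p).ι ≫ 𝒰.glueMorphisms ψ hcompat = ψ p :=
    Scheme.Cover.ι_glueMorphisms 𝒰 ψ hcompat p
  have hk := key p (𝟙 (N p).toScheme) (N p).ι (Category.id_comp _).symm
  rw [Category.id_comp] at hk
  change pullback.fst π (N p).ι ≫ π ≫ 𝒰.glueMorphisms ψ hcompat = pullback.fst π (N p).ι ≫ F
  calc pullback.fst π (N p).ι ≫ π ≫ 𝒰.glueMorphisms ψ hcompat
      = pullback.snd π (N p).ι ≫ (N p).ι ≫ 𝒰.glueMorphisms ψ hcompat := by
        rw [← Category.assoc, pullback.condition, Category.assoc]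
    _ = pullback.snd π (N p).ι ≫ ψ p := by rw [hg]
    _ = pullback.fst π (N p).ι ≫ F := hk

end Groth.Agent.Lib.Helper24.Blanchard
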