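import Mathlib

/-!
# Flat base change of `O_Y ≅ f_* O_X`
-/

set_option autoImplicit false
universe u

open AlgebraicGeometry CategoryTheory Limits TopologicalSpace Opposite

namespace Groth.Agent.Lib.Helper24.Blanchard

variable {X Y P Q : Scheme.{u}} {f : X ⟶ Y} {h : P ⟶ Y} {q : Q ⟶ X} {π : Q ⟶ P}

/-- Flat base change on a small affine open. -/
theorem isIso_app_of_isAffineOpen (H : IsPullback q π f h) [Flat h] [QuasiCompact f]
    [QuasiSeparated f] (hf : ∀ V : Y.Opens, IsIso (f.app V))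
    (V : Y.Opens) (hV : IsAffineOpen V) (W : P.Opens) (hW : IsAffineOpen W) (hWV : W ≤ h ⁻¹ᵁ V) :
    IsIso (π.app W) := by
  have hUY : q ⁻¹ᵁ (f ⁻¹ᵁ V) ⊓ π ⁻¹ᵁ W = π ⁻¹ᵁ W := by
    apply le_antisymm inf_le_right
    refine le_inf ?_ le_rfl
    intro z hz
    change f (q z) ∈ V
    have : f (q z) = h (π z) := by
      rw [← Scheme.Hom.comp_apply, ← Scheme.Hom.comp_apply, H.w]
    rw [this]
    exact hWV hz
  have hiso : IsIso (pushoutSection H (US := V) (UT := W) (UX := f ⁻¹ᵁ V)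
      (UY := π ⁻¹ᵁ W) hWV le_rfl hUY.symm) :=
    isIso_pushoutSection_of_isQuasiSeparated_of_flat_right H _ _ _ hV hW
      (f.isCompact_preimage hV.isCompact) (f.isQuasiSeparated_preimage hV.isQuasiSeparated)
  have hpo := (isIso_pushoutSection_iff H _ _ _).mp hiso
  have e1 : f.appLE V (f ⁻¹ᵁ V) le_rfl = f.app V := Scheme.Hom.appLE_eq_app f
  have e2 : π.appLE W (π ⁻¹ᵁ W) le_rfl = π.app W := Scheme.Hom.appLE_eq_app π
  have h1 : IsIso (f.appLE V (f ⁻¹ᵁ V) le_rfl) := by rw [e1]; exact hf V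
  have h2 := hpo.isIso_inr_of_isIso h1
  rw [e2] at h2
  exact h2

/-- **Flat base change**: if `O_Y(V) ⟶ O_X(f⁻¹ V)` is bijective for all opens `V` of `Y`, the
same holds for the base change of `f` along a flat morphism. -/
theorem isIso_app_of_isPullback (H : IsPullback q π f h) [Flat h] [QuasiCompact f]
    [QuasiSeparated f] (hf : ∀ V : Y.Opens, IsIso (f.app V)) (W : P.Opens) :
    IsIso (π.app W) := by
  -- the basis of small affine opens
  let ι : Type u := {W : P.Opens // IsAffineOpen W ∧ ∃ V : Y.Opens, IsAffineOpen V ∧ W ≤ h ⁻¹ᵁ V}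
  let B : ι → Opens P := fun W => W.1
  have hB : Opens.IsBasis (Set.range B) := by
    rw [Opens.isBasis_iff_nbhd]
    intro U p hpU
    let V : Y.Opens := (Y.affineCover.f (Y.affineCover.idx (h p))).opensRange
    have hV : IsAffineOpen V := isAffineOpen_opensRange _
    have hpV : h p ∈ V := Y.affineCover.covers (h p)
    have hp' : p ∈ U ⊓ h ⁻¹ᵁ V := ⟨hpU, hpV⟩
    obtain ⟨_, ⟨W, hW, rfl⟩, hpW, hWle⟩ :=
      P.isBasis_affineOpens.exists_subset_of_mem_open hp' (U ⊓ h ⁻¹ᵁ V).2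
    have hWle' : (W : P.Opens) ≤ U ⊓ h ⁻¹ᵁ V := hWle
    exact ⟨W, ⟨⟨W, hW, V, hV, hWle'.trans inf_le_right⟩, rfl⟩, hpW, hWle'.trans inf_le_left⟩
  -- the comorphism as a morphism of sheaves
  let φ : P.sheaf ⟶ (TopCat.Sheaf.pushforward CommRingCat π.base).obj Q.sheaf := ⟨π.c⟩
  have hφ : IsIso φ := by
    apply TopCat.Sheaf.isIso_iff_isIso_basis (B := B) hB
    rintro ⟨W, hW, V, hV, hWV⟩
    exact isIso_app_of_isAffineOpen H hf V hV W hW hWV
  have h2 : IsIso ((TopCat.Sheaf.forget CommRingCat P).map φ) := inferInstance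
  have h3 : IsIso (((TopCat.Sheaf.forget CommRingCat P).map φ).app (op W)) := inferInstance
  exact h3

end Groth.Agent.Lib.Helper24.Blanchard
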