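import Mathlib
import Groth.Agent.Lib.Helper24.Blanchard.Sections
import Groth.Agent.Lib.Helper24.Blanchard.Factor

/-!
# Whiskering a contraction `f : X ⟶ Y` over a field by a `k`-scheme `T`
-/

set_option autoImplicit false
universe u

open AlgebraicGeometry CategoryTheory Limits TopologicalSpace Opposite
open MonoidalCategory CartesianMonoidalCategory

namespace Groth.Agent.Lib.Helper24.Blanchard

section general

variable {S : Scheme.{u}} (T : Over S) {X Y : Over S} (f : X ⟶ Y)

lemma whiskerLeft_left_fst : (T ◁ f).left ≫ (fst T Y).left = (fst T X).left := by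
  have := congrArg (fun φ => φ.left) (whiskerLeft_fst T f)
  simpa using this

lemma whiskerLeft_left_snd : (T ◁ f).left ≫ (snd T Y).left = (snd T X).left ≫ f.left := by
  have := congrArg (fun φ => φ.left) (whiskerLeft_snd T f)
  simpa using this

/-- `T × X ⟶ T × Y` is the base change of `f : X ⟶ Y` along the projection `T × Y ⟶ Y`. -/
lemma isPullback_whiskerLeft :
    IsPullback (snd T X).left (T ◁ f).left f.left (snd T Y).left := by
  have H₀ : IsPullback (fst T Y).left (snd T Y).left T.hom Y.hom :=
    IsPullback.of_hasPullback T.hom Y.hom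
  have H₁ : IsPullback (fst T X).left (snd T X).left T.hom X.hom :=
    IsPullback.of_hasPullback T.hom X.hom
  refine (IsPullback.of_right ?_ (whiskerLeft_left_snd T f) H₀).flip
  rw [whiskerLeft_left_fst, Over.w f]
  exact H₁

theorem exists_of_isPullback {P X Y Z : Scheme.{u}} {fst : P ⟶ X} {snd : P ⟶ Y} {f : X ⟶ Z}
    {g : Y ⟶ Z} (H : IsPullback fst snd f g) (x : X) (y : Y) (h : f x = g y) :
    ∃ z : P, fst z = x ∧ snd z = y := by
  obtain ⟨w, hw1, hw2⟩ := Scheme.Pullback.exists_preimage_pullback x y h
  refine ⟨H.isoPullback.inv w, ?_, ?_⟩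
  · rw [← Scheme.Hom.comp_apply, H.isoPullback_inv_fst]; exact hw1
  · rw [← Scheme.Hom.comp_apply, H.isoPullback_inv_snd]; exact hw2

/-- If `π` is a base change of `f` (along `h`), then the base change of `π` to a fibre of `h` is a
base change of a fibre of `f`; in particular it is universally open when `f` is locally of finite
presentation. -/
theorem universallyOpen_snd_fiberι {Q P X Y : Scheme.{u}} {q : Q ⟶ X} {π : Q ⟶ P} {f : X ⟶ Y}
    {h : P ⟶ Y} (H : IsPullback q π f h) [LocallyOfFinitePresentation f] (y : Y) :
    UniversallyOpen (pullback.snd π (h.fiberι y)) := by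
  let ι := h.fiberι y
  let t := h.fiberToSpecResidueField y
  let j := Y.fromSpecResidueField y
  have hfac : ι ≫ h = t ≫ j := h.fiber_fac y
  have A : IsPullback (pullback.fst π ι) (pullback.snd π ι) π ι := IsPullback.of_hasPullback π ι
  have B : IsPullback (pullback.fst π ι ≫ q) (pullback.snd π ι) f (t ≫ j) := by
    rw [← hfac]
    exact (A.flip.paste_vert H.flip).flip
  have C : IsPullback (f.fiberι y) (f.fiberToSpecResidueField y) f j :=
    IsPullback.of_hasPullback f j
  let l : pullback π ι ⟶ f.fiber y := C.lift (pullback.fst π ι ≫ q) (pullback.snd π ι ≫ t) (by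
    rw [Category.assoc, Category.assoc, ← hfac, H.w, pullback.condition_assoc])
  have hl₁ : l ≫ f.fiberι y = pullback.fst π ι ≫ q := C.lift_fst _ _ _
  have hl₂ : l ≫ f.fiberToSpecResidueField y = pullback.snd π ι ≫ t := C.lift_snd _ _ _
  have D : IsPullback l (pullback.snd π ι) (f.fiberToSpecResidueField y) t := by
    refine IsPullback.of_right ?_ hl₂ C
    rw [hl₁]
    exact B
  haveI : LocallyOfFinitePresentation (f.fiberToSpecResidueField y) :=
    (inferInstance : LocallyOfFinitePresentation (pullback.snd f j))
  haveI : Flat (f.fiberToSpecResidueField y) := inferInstance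
  haveI : UniversallyOpen (f.fiberToSpecResidueField y) := UniversallyOpen.of_flat _
  exact MorphismProperty.of_isPullback (P := @UniversallyOpen) D inferInstance

end general

section field

variable {k : Type u} [Field k]
variable (T : Over (Spec (CommRingCat.of k))) {X Y : Over (Spec (CommRingCat.of k))} (f : X ⟶ Y)

lemma flat_hom : Flat T.hom := by
  haveI : Subsingleton ↥(Spec (CommRingCat.of k)) := inferInstanceAs (Subsingleton (PrimeSpectrum k))
  infer_instance

lemma flat_snd_left : Flat (snd T Y).left := by
  haveI := flat_hom T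
  exact (inferInstance : Flat (pullback.snd T.hom Y.hom))

variable [IsProper f.left]

lemma isProper_whiskerLeft : IsProper (T ◁ f).left :=
  MorphismProperty.of_isPullback (P := @IsProper) (isPullback_whiskerLeft T f) inferInstance

lemma isClosedMap_whiskerLeft : IsClosedMap (T ◁ f).left.base := by
  haveI := isProper_whiskerLeft T f
  exact (T ◁ f).left.isClosedMap

variable (hf : ∀ U : Y.left.Opens, IsIso (f.left.app U))

include hf in
lemma isIso_app_whiskerLeft (W : (T ⊗ Y).left.Opens) : IsIso ((T ◁ f).left.app W) := by
  haveI := flat_snd_left T (Y := Y)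
  exact isIso_app_of_isPullback (isPullback_whiskerLeft T f) hf W

include hf in
lemma epi_whiskerLeft_left : Epi (T ◁ f).left :=
  epi _ (isClosedMap_whiskerLeft T f) (isIso_app_whiskerLeft T f hf)

include hf in
lemma epi_whiskerLeft : Epi (T ◁ f) := by
  haveI := epi_whiskerLeft_left T f hf
  exact Over.epi_of_epi_left _

end field

end Groth.Agent.Lib.Helper24.Blanchard
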