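import Mathlib
import Groth.Prelude.Def_AlgGrp
import Groth.Agent.Lib.Helper24.Blanchard.Whisker

/-!
# Descending an action along a contraction: equivalent conditions
-/

set_option autoImplicit false
universe u

open AlgebraicGeometry CategoryTheory Limits TopologicalSpace Opposite
open MonoidalCategory CartesianMonoidalCategory MonObj GrpObj

namespace Groth.Agent.Lib.Helper24.Blanchard

variable {k : Type u} [Field k]

variable (G : Over (Spec (CommRingCat.of k))) {X Y : Over (Spec (CommRingCat.of k))} [GrpObj G]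
  (f : X ⟶ Y) [IsProper f.left] (hf : ∀ U : Y.left.Opens, IsIso (f.left.app U))

omit [GrpObj G] in
include hf in
theorem exists_act_of_const (act : G ⊗ X ⟶ X)
    (hconst : ∀ p q : ↥(G ⊗ X).left, (G ◁ f).left p = (G ◁ f).left q →
      (act ≫ f).left p = (act ≫ f).left q) :
    ∃ ψ : G ⊗ Y ⟶ Y, (G ◁ f) ≫ ψ = act ≫ f := by
  let π := (G ◁ f).left
  let F := (act ≫ f).left
  have hcl := isClosedMap_whiskerLeft G f
  have hiso := isIso_app_whiskerLeft G f hf
  obtain ⟨ψ₀, hψ₀⟩ := exists_factor π hcl hiso F hconst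
  haveI : Epi π := epi π hcl hiso
  have hover : ψ₀ ≫ Y.hom = (G ⊗ Y).hom := by
    rw [← cancel_epi π, ← Category.assoc, hψ₀]
    exact (Over.w (act ≫ f)).trans (Over.w (G ◁ f)).symm
  refine ⟨Over.homMk ψ₀ hover, ?_⟩
  ext1
  simp only [Over.comp_left, Over.homMk_left]
  exact hψ₀

variable (a : AlgGrp.Action G X)

include hf in
theorem exists_action_of_act (ψ : G ⊗ Y ⟶ Y) (hψ : (G ◁ f) ≫ ψ = a.act ≫ f) :
    ∃ b : AlgGrp.Action G Y, (G ◁ f) ≫ b.act = a.act ≫ f := by
  haveI := epi_whiskerLeft (𝟙_ _) f hf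
  haveI := epi_whiskerLeft (G ⊗ G) f hf
  refine ⟨⟨ψ, ?_, ?_⟩, hψ⟩
  · rw [← cancel_epi ((𝟙_ _) ◁ f)]
    calc (𝟙_ _ ◁ f) ≫ (η[G] ▷ Y) ≫ ψ = (η[G] ▷ X) ≫ (G ◁ f) ≫ ψ := by
          rw [← Category.assoc, whisker_exchange, Category.assoc]
      _ = (η[G] ▷ X) ≫ a.act ≫ f := by rw [hψ]
      _ = (λ_ X).hom ≫ f := by rw [← Category.assoc, a.one_act]
      _ = (𝟙_ _ ◁ f) ≫ (λ_ Y).hom := (leftUnitor_naturality f).symm
  · rw [← cancel_epi ((G ⊗ G) ◁ f)]
    calc ((G ⊗ G) ◁ f) ≫ (μ[G] ▷ Y) ≫ ψ = (μ[G] ▷ X) ≫ (G ◁ f) ≫ ψ := by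
          rw [← Category.assoc, whisker_exchange, Category.assoc]
      _ = (μ[G] ▷ X) ≫ a.act ≫ f := by rw [hψ]
      _ = (α_ G G X).hom ≫ (G ◁ a.act) ≫ a.act ≫ f := by
          rw [← Category.assoc, a.mul_act]; simp only [Category.assoc]
      _ = (α_ G G X).hom ≫ (G ◁ a.act) ≫ (G ◁ f) ≫ ψ := by rw [hψ]
      _ = (α_ G G X).hom ≫ (G ◁ (a.act ≫ f)) ≫ ψ := by
          rw [MonoidalCategory.whiskerLeft_comp, Category.assoc]
      _ = (α_ G G X).hom ≫ (G ◁ ((G ◁ f) ≫ ψ)) ≫ ψ := by rw [hψ]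
      _ = (α_ G G X).hom ≫ (G ◁ (G ◁ f)) ≫ (G ◁ ψ) ≫ ψ := by
          rw [MonoidalCategory.whiskerLeft_comp, Category.assoc]
      _ = ((G ⊗ G) ◁ f) ≫ (α_ G G Y).hom ≫ (G ◁ ψ) ≫ ψ := by
          rw [← Category.assoc, ← associator_naturality_right, Category.assoc]

include hf in
/-- Equivalent conditions for an action to descend along a contraction. -/
theorem action_descends_tfae :
    [∃ b : AlgGrp.Action G Y, (G ◁ f) ≫ b.act = a.act ≫ f,
      ∀ (T : Over (Spec (CommRingCat.of k))) (g : T ⟶ G) (x₁ x₂ : T ⟶ X),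
        x₁ ≫ f = x₂ ≫ f → lift g x₁ ≫ a.act ≫ f = lift g x₂ ≫ a.act ≫ f,
      ∀ p q : ↥(G ⊗ X).left, (G ◁ f).left.base p = (G ◁ f).left.base q →
        (a.act ≫ f).left.base p = (a.act ≫ f).left.base q].TFAE := by
  tfae_have 1 → 2 := by
    rintro ⟨b, hb⟩ T g x₁ x₂ h12
    rw [← hb]
    have h1 : ∀ x : T ⟶ X, lift g x ≫ (G ◁ f) = lift g (x ≫ f) := by
      intro x
      apply CartesianMonoidalCategory.hom_ext <;> simp
    rw [← Category.assoc, ← Category.assoc, h1, h1, h12]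
  tfae_have 2 → 3 := by
    intro h2 p q hpq
    let π := (G ◁ f).left
    obtain ⟨z, hz1, hz2⟩ := Scheme.Pullback.exists_preimage_pullback (f := π) (g := π) p q hpq
    let T : Over (Spec (CommRingCat.of k)) := Over.mk (pullback.fst π π ≫ (G ⊗ X).hom)
    let pr₁ : T ⟶ G ⊗ X := Over.homMk (pullback.fst π π) rfl
    let pr₂ : T ⟶ G ⊗ X := Over.homMk (pullback.snd π π) (by
      change pullback.snd π π ≫ (G ⊗ X).hom = pullback.fst π π ≫ (G ⊗ X).hom
      rw [← Over.w (G ◁ f), ← Category.assoc, ← Category.assoc]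
      congr 1
      exact (pullback.condition (f := π) (g := π)).symm)
    have hpr : pr₁ ≫ (G ◁ f) = pr₂ ≫ (G ◁ f) := by
      apply Over.OverMorphism.ext
      exact pullback.condition (f := π) (g := π)
    let g : T ⟶ G := pr₁ ≫ fst G X
    let x₁ : T ⟶ X := pr₁ ≫ snd G X
    let x₂ : T ⟶ X := pr₂ ≫ snd G X
    have hg : pr₂ ≫ fst G X = g := by
      have : (G ◁ f) ≫ fst G Y = fst G X := whiskerLeft_fst G f
      simp only [g]
      rw [← this, ← Category.assoc, ← Category.assoc, hpr]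
    have h12 : x₁ ≫ f = x₂ ≫ f := by
      have : (G ◁ f) ≫ snd G Y = snd G X ≫ f := whiskerLeft_snd G f
      simp only [x₁, x₂, Category.assoc]
      rw [← this, ← Category.assoc, ← Category.assoc, hpr]
    have hl1 : lift g x₁ = pr₁ := by
      apply CartesianMonoidalCategory.hom_ext <;> simp [g, x₁]
    have hl2 : lift g x₂ = pr₂ := by
      apply CartesianMonoidalCategory.hom_ext
      · simp only [lift_fst]; exact hg.symm
      · simp [x₂]
    have key := h2 T g x₁ x₂ h12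
    rw [hl1, hl2] at key
    have key' : pullback.fst π π ≫ (a.act ≫ f).left = pullback.snd π π ≫ (a.act ≫ f).left := by
      have := congrArg (fun φ => φ.left) key
      simp only [Over.comp_left] at this ⊢
      exact this
    have e1 : (a.act ≫ f).left p = (pullback.fst π π ≫ (a.act ≫ f).left) z := by
      rw [← hz1]; rfl
    have e2 : (a.act ≫ f).left q = (pullback.snd π π ≫ (a.act ≫ f).left) z := by
      rw [← hz2]; rfl
    exact e1.trans ((congrArg (fun φ : pullback π π ⟶ Y.left => φ z) key').trans e2.symm)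
  tfae_have 3 → 1 := by
    intro h3
    obtain ⟨ψ, hψ⟩ := exists_act_of_const G f hf a.act h3
    exact exists_action_of_act G f hf a ψ hψ
  tfae_finish

end Groth.Agent.Lib.Helper24.Blanchard
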